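import Cfsg.Agent.H619.SB.Spor
import Cfsg.Agent.H619.SB.FiW.Main

/-!
# S4884: the sporadic rows, unconditional (helper619)
-/

set_option autoImplicit false

open Cfsg

namespace Cfsg.Agent.H619.SB

open Cfsg.Agent.H635.SB

/-- **`(Fi24', 7)`** -/
theorem row_seven : RowQ 7 Spor.Fi24' := FiW.row_seven_of H360.PB.BRow.sthree

variable {q : ℕ}

/-- **The sporadic rows.** -/
theorem sporRows (hq : q.Prime) (hq2 : q ≠ 2) : SporRows q := sporRows_of row_seven hq hq2

/-- **The field `spor` of `H706.PB.Rows`.** -/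
theorem spor (hq : q.Prime) (hq2 : q ≠ 2) : H706.PB.RowFor q (fun X _ => IsSporadicGroup X) :=
  (sporRows hq hq2).spor

end Cfsg.Agent.H619.SB
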